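import Cfsg.Agent.Lib.Helper7.GlS3.Defs
import Cfsg.Agent.Lib.Helper71.Fitting
/-! XB1 (S4302 farm, helper7). -/
set_option autoImplicit false

namespace Cfsg.Agent.Lib.Helper89.GlS3

open Subgroup Cfsg.Agent.Lib.Helper7.GlS3 Cfsg.Agent.Lib.Helper48

theorem conj_mem_Z {X : Type*} [Group X] (S : Sylow 2 X) (g x : X)
    (hx : x ∈ (S : Subgroup X) ⊓ centralizer ((S : Subgroup X) : Set X)) :
    g * x * g⁻¹ ∈ ((g • S : Sylow 2 X) : Subgroup X) ⊓
      centralizer (((g • S : Sylow 2 X) : Subgroup X) : Set X) := by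
  obtain ⟨hx1, hx2⟩ := mem_inf.mp hx
  refine mem_inf.mpr ⟨⟨x, hx1, rfl⟩, ?_⟩
  rw [mem_centralizer_iff]
  rintro _ ⟨y, hy, rfl⟩
  have := mem_centralizer_iff.mp hx2 y hy
  change g * y * g⁻¹ * (g * x * g⁻¹) = g * x * g⁻¹ * (g * y * g⁻¹)
  calc g * y * g⁻¹ * (g * x * g⁻¹) = g * (y * x) * g⁻¹ := by group
    _ = g * (x * y) * g⁻¹ := by rw [this]
    _ = _ := by group

theorem VZ_normal {X : Type*} [Group X] :
    (⨆ S : Sylow 2 X, ((S : Subgroup X) ⊓ centralizer ((S : Subgroup X) : Set X))).Normal := by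
  have key : ∀ g : X, (⨆ S : Sylow 2 X, ((S : Subgroup X) ⊓
      centralizer ((S : Subgroup X) : Set X))).map (MulAut.conj g).toMonoidHom ≤
      ⨆ S : Sylow 2 X, ((S : Subgroup X) ⊓ centralizer ((S : Subgroup X) : Set X)) := by
    intro g
    rw [Subgroup.map_iSup]
    refine iSup_le fun S => ?_
    refine le_trans ?_ (le_iSup (fun S : Sylow 2 X => ((S : Subgroup X) ⊓
      centralizer ((S : Subgroup X) : Set X))) (g • S))
    rintro _ ⟨x, hx, rfl⟩
    exact conj_mem_Z S g x hx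
  exact ⟨fun x hx g => key g ⟨x, hx, rfl⟩⟩

theorem core_eq {X : Type*} [Group X] [Finite X] (T : Sylow 2 X) :
    (centralizer (((T : Subgroup X) ⊓ centralizer ((T : Subgroup X) : Set X) : Subgroup X) :
      Set X)).normalCore =
    centralizer ((⨆ S : Sylow 2 X, ((S : Subgroup X) ⊓ centralizer ((S : Subgroup X) : Set X)) :
      Subgroup X) : Set X) := by
  apply le_antisymm
  · rw [le_centralizer_iff]
    refine iSup_le fun S => ?_
    obtain ⟨g, rfl⟩ := MulAction.exists_smul_eq X T S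
    intro z hz
    rw [mem_centralizer_iff]
    intro c hc
    have h1 : g⁻¹ * c * g⁻¹⁻¹ ∈ centralizer (((T : Subgroup X) ⊓
        centralizer ((T : Subgroup X) : Set X) : Subgroup X) : Set X) := hc g⁻¹
    have h2 := conj_mem_Z (g • T) g⁻¹ z hz
    rw [inv_smul_smul] at h2
    have h3 := mem_centralizer_iff.mp h1 _ h2
    have h4 : g⁻¹ * (z * c) * g = g⁻¹ * (c * z) * g := by
      calc g⁻¹ * (z * c) * g = g⁻¹ * z * g⁻¹⁻¹ * (g⁻¹ * c * g⁻¹⁻¹) := by group
        _ = g⁻¹ * c * g⁻¹⁻¹ * (g⁻¹ * z * g⁻¹⁻¹) := h3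
        _ = _ := by group
    exact (mul_left_cancel (mul_right_cancel h4)).symm
  · haveI := VZ_normal (X := X)
    haveI : (centralizer ((⨆ S : Sylow 2 X, ((S : Subgroup X) ⊓
      centralizer ((S : Subgroup X) : Set X)) : Subgroup X) : Set X)).Normal := inferInstance
    rw [normal_le_normalCore]
    exact centralizer_le (le_iSup (fun S : Sylow 2 X => ((S : Subgroup X) ⊓
      centralizer ((S : Subgroup X) : Set X))) T)

theorem VZ_facts {X : Type*} [Group X] [Finite X]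
    (hc : centralizer (Cfsg.pCore 2 X : Set X) ≤ Cfsg.pCore 2 X) :
    (⨆ S : Sylow 2 X, ((S : Subgroup X) ⊓ centralizer ((S : Subgroup X) : Set X))).Normal ∧
    IsMulCommutative ↥(⨆ S : Sylow 2 X, ((S : Subgroup X) ⊓ centralizer ((S : Subgroup X) : Set X))) ∧
    IsPGroup 2 ↥(⨆ S : Sylow 2 X, ((S : Subgroup X) ⊓ centralizer ((S : Subgroup X) : Set X))) ∧
    VV 2 X ≤ ⨆ S : Sylow 2 X, ((S : Subgroup X) ⊓ centralizer ((S : Subgroup X) : Set X)) := by
  have hOS : ∀ S : Sylow 2 X, Cfsg.pCore 2 X ≤ (S : Subgroup X) := by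
    intro S
    unfold Cfsg.pCore
    refine sSup_le ?_
    rintro N ⟨hN, hN2⟩
    haveI := hN
    exact Cfsg.Agent.Lib.Helper71.normal_pGroup_le_sylow N hN2 S
  have hle : (⨆ S : Sylow 2 X, ((S : Subgroup X) ⊓ centralizer ((S : Subgroup X) : Set X))) ≤
      Cfsg.pCore 2 X ⊓ centralizer (Cfsg.pCore 2 X : Set X) := by
    refine iSup_le fun S => ?_
    intro z hz
    have h1 : z ∈ centralizer (Cfsg.pCore 2 X : Set X) :=
      centralizer_le (hOS S) (mem_inf.mp hz).2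
    exact mem_inf.mpr ⟨hc h1, h1⟩
  refine ⟨VZ_normal, ?_, ?_, ?_⟩
  · refine ⟨⟨fun a b => ?_⟩⟩
    have ha := mem_inf.mp (hle a.2)
    have hb := mem_inf.mp (hle b.2)
    exact Subtype.ext (mem_centralizer_iff.mp hb.2 a ha.1)
  · obtain ⟨S⟩ : Nonempty (Sylow 2 X) := inferInstance
    exact S.2.to_le (hle.trans (inf_le_left.trans (hOS S)))
  · unfold VV
    refine iSup_mono fun S => ?_
    unfold Cfsg.omegaOne
    rw [closure_le]
    intro x hx
    exact hx.1

end Cfsg.Agent.Lib.Helper89.GlS3
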