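import Cfsg.Agent.Lib.Helper7.GlS3.Defs
/-! XB2 (S4302 farm, helper7). -/
set_option autoImplicit false

namespace Cfsg.Agent.Lib.Helper89.GlS3

open Subgroup Cfsg.Agent.Lib.Helper7.GlS3 Cfsg.Agent.Lib.Helper48

theorem exists_L_aux {X : Type*} [Group X] (C : Subgroup X) (n : ℕ)
    (hn : derivedSeries X n = ⊥) :
    ∀ k i : ℕ, i + k = n → ∀ K : Subgroup X, K.Normal → K ≤ derivedSeries X i → ¬ K ≤ C →
      ∃ L : Subgroup X, L.Normal ∧ L ≤ K ∧ ¬ L ≤ C ∧ ⁅L, L⁆ ≤ C := by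
  intro k
  induction k with
  | zero =>
    intro i hi K _ hKi hKC
    exfalso
    apply hKC
    have : i = n := by omega
    subst this
    rw [hn] at hKi
    exact hKi.trans bot_le
  | succ k ih =>
    intro i hi K hK hKi hKC
    by_cases h : ⁅K, K⁆ ≤ C
    · exact ⟨K, hK, le_refl _, hKC, h⟩
    · haveI := hK
      obtain ⟨L, hL, hLK, hLC, hLL⟩ := ih (i + 1) (by omega) ⁅K, K⁆ inferInstance
        (by rw [derivedSeries_succ]; exact commutator_mono hKi hKi) h
      exact ⟨L, hL, hLK.trans (commutator_le_left K K), hLC, hLL⟩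

theorem exists_L {X : Type*} [Group X] [Finite X] [Group.IsSolvable X] (K C : Subgroup X)
    (hK : K.Normal) (hKC : ¬ K ≤ C) :
    ∃ L : Subgroup X, L.Normal ∧ L ≤ K ∧ ¬ L ≤ C ∧ ⁅L, L⁆ ≤ C := by
  obtain ⟨n, hn⟩ := (Group.isSolvable_def X).mp inferInstance
  exact exists_L_aux C n hn n 0 (by omega) K hK (by rw [derivedSeries_zero]; exact le_top) hKC

end Cfsg.Agent.Lib.Helper89.GlS3
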