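import Cfsg.Agent.Lib.Helper7.GlS3.Defs
/-! XB3 (S4302 farm, helper7). -/
set_option autoImplicit false

namespace Cfsg.Agent.Lib.Helper89.GlS3

open Subgroup Cfsg.Agent.Lib.Helper7.GlS3 Cfsg.Agent.Lib.Helper48
open scoped commutatorElement

theorem normal_sup {X : Type*} [Group X] [Finite X] (L D : Subgroup X) (hL : L.Normal)
    (hD : D.Normal) (hDL : D ≤ L) (hLL : ⁅L, L⁆ ≤ D) (r : ℕ) [Fact r.Prime] (P : Sylow r ↥L) :
    ((P : Subgroup ↥L).map L.subtype ⊔ D).Normal := by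
  haveI := hL
  have key : ∀ g : X, ((P : Subgroup ↥L).map L.subtype ⊔ D).map (MulAut.conj g).toMonoidHom ≤
      (P : Subgroup ↥L).map L.subtype ⊔ D := by
    intro g
    rw [Subgroup.map_sup]
    refine sup_le ?_ ?_
    · rintro _ ⟨_, ⟨x, hx, rfl⟩, rfl⟩
      obtain ⟨l, hl⟩ := MulAction.exists_smul_eq ↥L P ((MulAut.conjNormal g : MulAut ↥L) • P)
      have h1 : (MulAut.conjNormal g : MulAut ↥L) x ∈ (MulAut.conjNormal g : MulAut ↥L) • P :=
        ⟨x, hx, rfl⟩
      rw [← hl] at h1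
      obtain ⟨y, hy, hyx⟩ := h1
      have h2 : (l : X) * (y : X) * (l : X)⁻¹ = g * (x : X) * g⁻¹ := by
        have := congrArg (Subtype.val) hyx
        simpa [MulAut.smul_def] using this
      change g * (x : X) * g⁻¹ ∈ _
      rw [← h2]
      have h3 : (l : X) * (y : X) * (l : X)⁻¹ = ⁅(l : X), (y : X)⁆ * (y : X) := by
        rw [commutatorElement_def]; group
      rw [h3]
      exact mul_mem (mem_sup_right (hLL (commutator_mem_commutator l.2 y.2)))
        (mem_sup_left ⟨y, hy, rfl⟩)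
    · rintro _ ⟨d, hd, rfl⟩
      exact mem_sup_right (hD.conj_mem d hd g)
  exact ⟨fun x hx g => key g ⟨x, hx, rfl⟩⟩

end Cfsg.Agent.Lib.Helper89.GlS3
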