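import Cfsg.Agent.Lib.Helper7.GlS3.Defs
import Cfsg.Agent.Lib.Helper1.Nilpotent
import Cfsg.Agent.Lib.Helper71.Fitting
/-! XB4 (S4302 farm, helper7). -/
set_option autoImplicit false

namespace Cfsg.Agent.Lib.Helper89.GlS3

open Subgroup Cfsg.Agent.Lib.Helper7.GlS3 Cfsg.Agent.Lib.Helper48

theorem exists_central_involution {X : Type*} [Group X] [Finite X] (T : Sylow 2 X)
    (U : Subgroup X) (hU : U.Normal) (hU2 : IsPGroup 2 U) (hne : U ≠ ⊥) :
    ∃ z ∈ U, z ≠ 1 ∧ z ^ 2 = 1 ∧ z ∈ (T : Subgroup X) ⊓ centralizer ((T : Subgroup X) : Set X) := by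
  haveI := hU
  have hUT : U ≤ (T : Subgroup X) := Cfsg.Agent.Lib.Helper71.normal_pGroup_le_sylow U hU2 T
  haveI : Group.IsNilpotent ↥(T : Subgroup X) := T.2.isNilpotent
  haveI : (U.subgroupOf (T : Subgroup X)).Normal := inferInstance
  have hne' : U.subgroupOf (T : Subgroup X) ≠ ⊥ := by
    intro h0
    apply hne
    rw [subgroupOf_eq_bot, disjoint_iff, inf_eq_left.mpr hUT] at h0
    exact h0
  have h1 := Cfsg.Agent.Lib.Helper1.normal_inf_center_ne_bot hne'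
  obtain ⟨⟨x, hx⟩, hx1'⟩ := Subgroup.ne_bot_iff_exists_ne_one.1 h1
  have hx1 : x ≠ 1 := fun h => hx1' (Subtype.ext h)
  obtain ⟨hxU, hxZ⟩ := mem_inf.mp hx
  -- order of x is 2^k, k ≥ 1
  obtain ⟨k, hk⟩ := (IsPGroup.iff_orderOf.mp T.2) x
  have hk0 : k ≠ 0 := by
    rintro rfl
    rw [pow_zero, orderOf_eq_one_iff] at hk
    exact hx1 hk
  obtain ⟨m, rfl⟩ := Nat.exists_eq_succ_of_ne_zero hk0
  refine ⟨((x ^ 2 ^ m : ↥(T : Subgroup X)) : X), ?_, ?_, ?_, ?_⟩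
  · rw [mem_subgroupOf] at hxU
    rw [Subgroup.coe_pow]
    exact pow_mem hxU _
  · intro h
    have h2 : x ^ 2 ^ m = 1 := Subtype.ext h
    have h3 := orderOf_dvd_of_pow_eq_one h2
    rw [hk] at h3
    have := Nat.le_of_dvd (by positivity) h3
    rw [Nat.succ_eq_add_one, pow_succ] at this
    have : 0 < 2 ^ m := by positivity
    omega
  · have h2 : (x ^ 2 ^ m) ^ 2 = 1 := by
      rw [← pow_mul, ← pow_succ, ← Nat.succ_eq_add_one, ← hk, pow_orderOf_eq_one]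
    have := congrArg Subtype.val h2
    simpa using this
  · refine mem_inf.mpr ⟨(x ^ 2 ^ m).2, ?_⟩
    rw [mem_centralizer_iff]
    intro t ht
    have h2 : x ^ 2 ^ m ∈ center ↥(T : Subgroup X) := pow_mem hxZ _
    have h3 := mem_center_iff.mp h2 ⟨t, ht⟩
    exact congrArg Subtype.val h3

end Cfsg.Agent.Lib.Helper89.GlS3
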