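import Cfsg.Agent.Lib.Helper7.GlS3.Defs
/-! XB5 (S4302 farm, helper7). -/
set_option autoImplicit false

namespace Cfsg.Agent.Lib.Helper89.GlS3

open Subgroup Cfsg.Agent.Lib.Helper7.GlS3 Cfsg.Agent.Lib.Helper48

theorem exists_sylow_not_le {X : Type*} [Group X] [Finite X] (L C : Subgroup X) (h : ¬ L ≤ C) :
    ∃ (r : ℕ) (_ : Fact r.Prime) (P : Sylow r ↥L), ¬ (P : Subgroup ↥L).map L.subtype ≤ C := by
  by_contra hcon
  push Not at hcon
  apply h
  have h1 : (C.subgroupOf L).index = 1 := by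
    rw [Nat.eq_one_iff_not_exists_prime_dvd]
    intro r hr hdvd
    haveI : Fact r.Prime := ⟨hr⟩
    obtain ⟨P⟩ : Nonempty (Sylow r ↥L) := inferInstance
    have h2 : (P : Subgroup ↥L) ≤ C.subgroupOf L := by
      intro x hx
      rw [mem_subgroupOf]
      exact hcon r ⟨hr⟩ P ⟨x, hx, rfl⟩
    exact P.not_dvd_index (hdvd.trans (index_dvd_of_le h2))
  rw [index_eq_one, subgroupOf_eq_top] at h1
  exact h1

end Cfsg.Agent.Lib.Helper89.GlS3
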